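import Mathlib.RingTheory.Localization.Away.Basic
import Mathlib.RingTheory.IntegralClosure.IsIntegral.Basic
import Mathlib.RingTheory.Localization.Integer

/-!
A power of an element of a localization becomes integral.
-/

set_option autoImplicit false
universe u

open Polynomial

namespace Groth.L22.CurveAmple

theorem isIntegral_of_prod {A R : Type u} [CommRing A] [CommRing R] [Algebra A R] {ι : Type*} (s : Finset ι)
    (x : R) (d : ι → A) (h : IsNilpotent (∏ i ∈ s, (x - algebraMap A R (d i)))) : IsIntegral A x := by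
  obtain ⟨e, he⟩ := h
  refine ⟨(∏ i ∈ s, (X - C (d i))) ^ e, (monic_prod_of_monic _ _ fun i _ => monic_X_sub_C _).pow e, ?_⟩
  simp only [eval₂_pow, eval₂_finset_prod, eval₂_sub, eval₂_X, eval₂_C]
  exact he

/-- If `a ^ M / f` is integral, some positive power of `a` is `f` times an element of `A`. -/
theorem exists_pow_eq {A R : Type u} [CommRing A] [CommRing R] [Algebra A R] (f : A) [IsLocalization.Away f R]
    {a x : R} {M : ℕ} (hM : 0 < M) (hx : algebraMap A R f * x = a ^ M) (hi : IsIntegral A x) :
    ∃ (E : ℕ) (b : A), 0 < E ∧ a ^ E = algebraMap A R (f * b) := by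
  classical
  obtain ⟨s, hs⟩ := hi.fg_adjoin_singleton
  obtain ⟨⟨_, K, rfl⟩, hK⟩ := IsLocalization.exist_integer_multiples_of_finset (Submonoid.powers f) s
  have hle : Subalgebra.toSubmodule (Algebra.adjoin A ({x} : Set R)) ≤
      Submodule.comap (LinearMap.mulLeft A (algebraMap A R (f ^ K))) (LinearMap.range (Algebra.linearMap A R)) := by
    rw [← hs, Submodule.span_le]
    intro y hy
    obtain ⟨c, hc⟩ := hK y hy
    refine ⟨c, ?_⟩
    show algebraMap A R c = algebraMap A R (f ^ K) * y
    rw [hc, Algebra.smul_def]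
  obtain ⟨c, hc⟩ := hle (show x ^ (K + 1) ∈ Algebra.adjoin A ({x} : Set R) from
    Subalgebra.pow_mem _ (Algebra.self_mem_adjoin_singleton A x) _)
  refine ⟨M * (K + 1), c, Nat.mul_pos hM K.succ_pos, ?_⟩
  have hc' : algebraMap A R c = algebraMap A R (f ^ K) * x ^ (K + 1) := hc
  rw [pow_mul, ← hx, mul_pow, map_mul, hc', map_pow, ← mul_assoc, ← pow_succ']

end Groth.L22.CurveAmple
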