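import Groth.Agent.L22.CurveAmple.Main
import Groth.Agent.L22.CurveAmple.Power
import Groth.Agent.L22.DimOneAmple.Affine
import Groth.Agent.L22.VeryAmple.Sections
import Groth.Agent.L21.Extend.Gen
import Groth.Agent.L21.Extend.Split
import Groth.Agent.L18.AmplePull

/-!
Ampleness in dimension one from sections on the components: powers of lifts extend.
-/

set_option autoImplicit false
set_option backward.isDefEq.respectTransparency false
set_option linter.style.haveILetI false
universe u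

open CategoryTheory AlgebraicGeometry TopologicalSpace Opposite

noncomputable section

namespace Groth.L22.CurveAmple

open Groth.L18.Frame (rs ro rs_rs rs_self rs_smul ro_ro ro_self ro_mul IsFrame pull pull_rs pull_smul)
open Groth.L18.GenLoc Groth.L18.Ample
open Groth.L22.FinAff (IsGen)

theorem fr_smul {X : Scheme.{u}} {N L : X.Modules} {W : X.Opens} (e : Γ(N, W)) (ε : Γ(L, W)) (a : Γ(X, W)) :
    ∀ k : ℕ, fr e (a • ε) k = a ^ k • fr e ε k
  | 0 => by rw [pow_zero, one_smul]; rfl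
  | k + 1 => by
    show tens _ L W (fr e (a • ε) k) (a • ε) = _ • tens _ L W _ ε
    rw [fr_smul e ε a k, tens_smul_left, tens_smul_right, ← mul_smul, pow_succ]

theorem fr_rs {X : Scheme.{u}} {N L : X.Modules} {W V : X.Opens} (h : V ≤ W) (e : Γ(N, W)) (ε : Γ(L, W)) :
    ∀ k : ℕ, rs (tw N L k) h (fr e ε k) = fr (rs N h e) (rs L h ε) k
  | 0 => rfl
  | k + 1 => by
    show rs (CohB1.tensorMod (tw N L k) L) h (tens _ L W _ _) = tens _ L V _ _
    rw [tens_rs, fr_rs h e ε k]

variable {X : Scheme.{u}}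

/-- Data for a component: a closed integral subscheme. -/
structure Comp (X : Scheme.{u}) (η : X) where
  C : Scheme.{u}
  i : C ⟶ X
  isClosedImmersion : IsClosedImmersion i
  isIntegral : IsIntegral C
  range_eq : Set.range i = closure {η}

variable (k : Type u) [Field k] [X.Over (Spec (CommRingCat.of k))]
  [IsProper (X ↘ Spec (CommRingCat.of k))]

include k in
theorem isAmple_of_components (hd : topologicalKrullDim X ≤ 1) {N : X.Modules} (hN : PicF.IsInvertible N)
    (D : ∀ η : {η : X // IsGen η}, Comp X η.1)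
    (W : {η : X // IsGen η} → X.Opens) (hmem : ∀ η, η.1 ∈ W η) (hW : ∀ η, IsAffineOpen (W η))
    (hsep : ∀ η η' : {η : X // IsGen η}, ∀ y ∈ W η, η'.1 ⤳ y → η' = η)
    (hfr : ∀ η, ∃ e : Γ(N, W η), IsFrame N (W η) e)
    (hz : ∀ η : {η : X // IsGen η}, ¬ IsClosed ({η.1} : Set X) → ∃ z, η.1 ⤳ z ∧ z ∉ W η)
    (φ : ∀ η, Coh.structureModule (D η).C ⟶ (Scheme.Modules.pullback (D η).i).obj N)
    (hgen : ∀ η, ∃ c ∈ CohB1.genLocus _ (φ η), (D η).i c = η.1)
    (hvan : ∀ η, ∀ c, (D η).i c ∉ W η → c ∉ CohB1.genLocus _ (φ η)) :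
    CohB1.IsAmple N := by
  classical
  haveI := Groth.L21.RR.isNoetherian_of_proper (X := X) k
  haveI := fun η => (D η).isClosedImmersion
  haveI := fun η => (D η).isIntegral
  have hexgen : ∀ y : X, ∃ η : {η : X // IsGen η}, η.1 ⤳ y := fun y => by
    obtain ⟨η, h1, h2⟩ := Groth.L22.FinAff.exists_isGen_specializes y
    exact ⟨⟨η, h1⟩, h2⟩
  have hdisj : ∀ η η', η ≠ η' → ∀ y, y ∉ W η ⊓ W η' := fun η η' hne y hy => by
    obtain ⟨ζ, hζ⟩ := hexgen y
    exact hne ((hsep η ζ y hy.1 hζ).symm.trans (hsep η' ζ y hy.2 hζ))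
  let U : X.Opens := ⨆ η, W η
  have hgenU : ∀ η : X, IsGen η → η ∈ U := fun η h => Opens.mem_iSup.2 ⟨⟨η, h⟩, hmem ⟨η, h⟩⟩
  have hiU : ∀ η c, (D η).i c ∈ U → (D η).i c ∈ W η := fun η c hc => by
    obtain ⟨η', hη'⟩ := Opens.mem_iSup.1 hc
    have hsp : η.1 ⤳ (D η).i c := specializes_iff_mem_closure.2 ((D η).range_eq.le ⟨c, rfl⟩)
    exact (congrArg W (hsep η' η _ hη' hsp)).ge hη'
  choose e he using hfr
  -- the lift on each open
  have hlift : ∀ η, ∃ a : Γ(X, W η), (D η).i.app (W η) a • pull (D η).i N (W η) (e η) =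
      rs ((Scheme.Modules.pullback (D η).i).obj N) le_top (secOf (φ η)) := fun η => by
    obtain ⟨c, hc⟩ := ((he η).pullback (D η).i N).exists_coeff le_rfl
      (rs ((Scheme.Modules.pullback (D η).i).obj N) (le_top : (D η).i ⁻¹ᵁ W η ≤ ⊤) (secOf (φ η)))
    rw [rs_self] at hc
    obtain ⟨a, rfl⟩ := (D η).i.app_surjective (W η) (hW η) c
    exact ⟨a, hc⟩
  choose a ha using hlift
  have hWU : ∀ η, W η ≤ U := fun η => le_iSup W η
  obtain ⟨σ, hσ⟩ := Groth.L21.Extend.exists_glue (M := N) W U hWU (fun y hy => Opens.mem_iSup.1 hy)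
    (fun η => a η • e η) fun η η' => by
      by_cases h : η = η'
      · subst h; rfl
      · exact @Subsingleton.elim _ (Groth.L21.Extend.subsingleton_bot N (hdisj η η' h)) _ _
  have hσ' : ∀ η, rs N (hWU η) σ = a η • e η := hσ
  -- local neighbourhoods of the boundary
  have hloc : ∀ z : {z : X // z ∉ U}, ∃ (V : X.Opens) (f : Γ(X, V)) (ε : Γ(N, V)), IsAffineOpen V ∧ z.1 ∈ V ∧
      X.basicOpen f = V ⊓ U ∧ IsFrame N V ε ∧ ∀ y ∈ V, y ∉ U → y = z.1 := fun z => by
    obtain ⟨O, ε, hzO, hε⟩ := Groth.L18.Frame.exists_frame hN z.1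
    obtain ⟨P, hPO, hPz⟩ := Groth.L22.DimOneAmple.exists_punct hd U hgenU z.2 O hzO
    exact ⟨P.V, P.f, rs N hPO ε, P.isAffine, P.mem, P.basicOpen_eq, hε.mono hPO, hPz⟩
  choose V f ε hV hzV hf hε huniq using hloc
  have hext : ∀ z, ∃ (E : ℕ) (b : Γ(X, V z)), 0 < E ∧
      ∀ az : Γ(X, X.basicOpen (f z)), az • rs N (X.basicOpen_le (f z)) (ε z) =
        rs N ((hf z).le.trans inf_le_right) σ → az ^ E = ro (X.basicOpen_le (f z)) (f z * b) := fun z => by
    haveI := (hV z).isLocalization_basicOpen (f z)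
    have hRV : X.basicOpen (f z) ≤ V z := X.basicOpen_le _
    have hRU : X.basicOpen (f z) ≤ U := (hf z).le.trans inf_le_right
    obtain ⟨az, haz⟩ := (hε z).exists_coeff hRV (rs N hRU σ)
    -- congruences on every component
    have hc : ∀ η, ∃ (M : ℕ), ∀ M', M ≤ M' → ∃ d : Γ(X, V z), (D η).i.app (X.basicOpen (f z)) (az ^ M') =
        (D η).i.app (X.basicOpen (f z)) (ro hRV (f z) * ro hRV d) := fun η => by
      let i := (D η).i
      obtain ⟨dd, hdd⟩ := ((hε z).pullback i N).exists_coeff le_rfl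
        (rs ((Scheme.Modules.pullback i).obj N) (le_top : i ⁻¹ᵁ V z ≤ ⊤) (secOf (φ η)))
      rw [rs_self] at hdd
      have hgl := genLocus_inf_eq (φ η) ((hε z).pullback i N) hdd
      -- on the punctured neighbourhood the coefficients agree
      have hagree : i.app (X.basicOpen (f z)) az = ro (i.preimage_mono hRV) dd := by
        refine ((hε z).pullback i N).inj (i.preimage_mono hRV) ?_
        have hL : i.app (X.basicOpen (f z)) az •
            rs ((Scheme.Modules.pullback i).obj N) (i.preimage_mono hRV) (pull i N (V z) (ε z)) =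
            rs ((Scheme.Modules.pullback i).obj N) (i.preimage_mono hRU) (pull i N U σ) := by
          rw [pull_rs i N hRV, pull_rs i N hRU, ← pull_smul, haz]
        have hle : i ⁻¹ᵁ X.basicOpen (f z) ≤ i ⁻¹ᵁ W η := fun c hc => hiU η c (hRU hc)
        have h1 : rs ((Scheme.Modules.pullback i).obj N) (i.preimage_mono hRU) (pull i N U σ) =
            rs ((Scheme.Modules.pullback i).obj N) le_top (secOf (φ η)) := by
          have h2 := congrArg (rs ((Scheme.Modules.pullback i).obj N) hle) (ha η)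
          rw [← pull_smul, ← hσ' η, ← pull_rs, rs_rs, rs_rs] at h2
          exact h2
        have h3 := congrArg (rs ((Scheme.Modules.pullback i).obj N) (i.preimage_mono hRV)) hdd
        rw [rs_smul, rs_rs] at h3
        exact hL.trans (h1.trans h3.symm)
      have hbo : (D η).C.basicOpen dd ≤ (D η).C.basicOpen (i.app (V z) (f z)) := by
        intro c hc
        rw [← Scheme.preimage_basicOpen, hf z]
        have hg := hgl.ge hc
        refine ⟨hg.2, ?_⟩
        by_contra hn
        exact hvan η c (fun h => hn (hWU η h)) hg.1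
      have hVC : IsAffineOpen (i ⁻¹ᵁ V z) := (hV z).preimage i
      obtain ⟨M, hM⟩ : ∃ M : ℕ, i.app (V z) (f z) ∣ dd ^ M := by
        have h : dd ∈ (Ideal.span {i.app (V z) (f z)}).radical := by
          rw [← PrimeSpectrum.basicOpen_le_basicOpen_iff]
          rw [← hVC.fromSpec_preimage_basicOpen, ← hVC.fromSpec_preimage_basicOpen]
          exact hVC.fromSpec.preimage_mono hbo
        obtain ⟨M, hM⟩ := h
        exact ⟨M, Ideal.mem_span_singleton.1 hM⟩
      refine ⟨M, fun M' hM' => ?_⟩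
      obtain ⟨g, hg⟩ := hM.trans (pow_dvd_pow dd hM')
      obtain ⟨d, rfl⟩ := i.app_surjective (V z) (hV z) g
      refine ⟨d, ?_⟩
      rw [map_pow, hagree, ← ro_mul]
      refine (map_pow _ _ _).symm.trans ?_
      rw [show dd ^ M' = i.app (V z) (f z * d) by rw [map_mul, hg]]
      exact (ConcreteCategory.congr_hom (i.naturality (homOfLE hRV).op) (f z * d)).symm
    haveI : Finite {η : X // IsGen η} := Groth.L22.DimOneAmple.finite_isGen.to_subtype
    haveI := Fintype.ofFinite {η : X // IsGen η}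
    choose M hM using hc
    let M₀ : ℕ := (Finset.univ.sup M) + 1
    choose d hd using fun η => hM η M₀ ((Finset.le_sup (Finset.mem_univ η)).trans (Nat.le_succ _))
    obtain ⟨fi, hfi⟩ : IsUnit (algebraMap Γ(X, V z) Γ(X, X.basicOpen (f z)) (f z)) :=
      IsLocalization.Away.algebraMap_isUnit (f z)
    let x : Γ(X, X.basicOpen (f z)) := ↑fi⁻¹ * az ^ M₀
    have hx : algebraMap Γ(X, V z) Γ(X, X.basicOpen (f z)) (f z) * x = az ^ M₀ := by
      show _ * (↑fi⁻¹ * az ^ M₀) = _
      rw [← hfi, Units.mul_inv_cancel_left]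
    have hnil : IsNilpotent (∏ η, (x - algebraMap Γ(X, V z) Γ(X, X.basicOpen (f z)) (d η))) := by
      rw [Scheme.isNilpotent_iff_basicOpen_eq_bot_of_isCompact ((hV z).basicOpen (f z)).isCompact]
      refine le_bot_iff.1 fun y hy => ?_
      obtain ⟨η, hη⟩ := hexgen y
      obtain ⟨c, rfl⟩ : y ∈ Set.range (D η).i := by rw [(D η).range_eq]; exact specializes_iff_mem_closure.1 hη
      have h0 : (D η).i.app (X.basicOpen (f z))
          (∏ η, (x - algebraMap Γ(X, V z) Γ(X, X.basicOpen (f z)) (d η))) = 0 := by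
        rw [map_prod]
        refine Finset.prod_eq_zero (Finset.mem_univ η) ?_
        rw [map_sub, sub_eq_zero]
        refine (hfi ▸ fi.isUnit : IsUnit (algebraMap Γ(X, V z) Γ(X, X.basicOpen (f z)) (f z))).map
          ((D η).i.app (X.basicOpen (f z))).hom |>.mul_right_inj.1 ?_
        rw [← map_mul, ← map_mul, hx]
        exact hd η
      have := ((D η).i.preimage_basicOpen _).le (x := c) hy
      rw [h0, Scheme.basicOpen_zero] at this
      exact this
    obtain ⟨E, b, hE, hb⟩ := exists_pow_eq (f z) (Nat.succ_pos _) hx (isIntegral_of_prod _ _ _ hnil)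
    refine ⟨E, b, hE, fun az' haz' => ?_⟩
    rw [(hε z).inj hRV (haz'.trans haz.symm)]
    exact hb
  haveI hUf : Finite {z : X // z ∉ U} :=
    (Groth.L22.PicGlue.finite_compl hd U hgenU).1.to_subtype
  haveI := Fintype.ofFinite {z : X // z ∉ U}
  choose E b hE hb using hext
  let E₀ : ℕ := ∏ z, E z
  have hE₀ : 0 < E₀ := Finset.prod_pos fun z _ => hE z
  let O1 : Γ(Coh.structureModule X, ⊤) := secOf (𝟙 _)
  let P : X.Modules := tw (Coh.structureModule X) N E₀
  have hP : PicF.IsInvertible P := Groth.L22.VeryAmple.isInvertible_tw (isInvertible_structureModule X) hN E₀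
  have hO1 : IsFrame (Coh.structureModule X) ⊤ O1 := by
    have := isFrame_genLocus (𝟙 (Coh.structureModule X))
    intro V h
    have hV' : V ≤ CohB1.genLocus (Coh.structureModule X) (𝟙 _) := by rw [genLocus_id]; exact h
    have h' := this V hV'
    simp only [rs_rs] at h'
    exact h'
  have hpow : ∀ z, ∃ bb : Γ(X, V z), ∀ az : Γ(X, X.basicOpen (f z)), az • rs N (X.basicOpen_le (f z)) (ε z) =
      rs N ((hf z).le.trans inf_le_right) σ → az ^ E₀ = ro (X.basicOpen_le (f z)) (f z * bb) := fun z => by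
    obtain ⟨t, ht⟩ : E z ∣ E₀ := Finset.dvd_prod_of_mem _ (Finset.mem_univ z)
    obtain ⟨t', rfl⟩ : ∃ t', t = t' + 1 := ⟨t - 1, by
      have : t ≠ 0 := fun h => by rw [h, mul_zero] at ht; omega
      omega⟩
    refine ⟨b z * (f z * b z) ^ t', fun az haz => ?_⟩
    rw [ht, pow_mul, hb z az haz, ← mul_assoc, ← pow_succ']
    exact (map_pow _ _ _).symm
  choose bb hbb using hpow
  -- glue
  let Nf : Option {z : X // z ∉ U} → X.Opens := fun o => o.elim U V
  let sU : Γ(P, U) := fr (rs _ le_top O1) σ E₀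
  let sV : ∀ z, Γ(P, V z) := fun z => (f z * bb z) • fr (rs _ le_top O1) (ε z) E₀
  have hcompat : ∀ z, rs P ((hf z).le.trans inf_le_right) sU = rs P (X.basicOpen_le (f z)) (sV z) := fun z => by
    obtain ⟨az, haz⟩ := (hε z).exists_coeff (X.basicOpen_le (f z)) (rs N ((hf z).le.trans inf_le_right) σ)
    show rs (tw _ N E₀) _ (fr _ σ E₀) = rs (tw _ N E₀) _ (_ • fr _ _ E₀)
    rw [fr_rs, rs_smul, fr_rs, ← haz, fr_smul, hbb z az haz, rs_rs, rs_rs]
  obtain ⟨t, ht⟩ := Groth.L21.Extend.exists_glue (M := P) Nf ⊤ (fun _ => le_top)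
    (fun y _ => by
      by_cases hy : y ∈ U
      · exact ⟨none, hy⟩
      · exact ⟨some ⟨y, hy⟩, hzV ⟨y, hy⟩⟩)
    (fun o => match o with
      | none => sU
      | some z => sV z) (by
    have hU' : ∀ z, rs P (inf_le_left : U ⊓ V z ≤ U) sU = rs P (inf_le_right : U ⊓ V z ≤ V z) (sV z) := fun z => by
      have h := congrArg (rs P (show U ⊓ V z ≤ X.basicOpen (f z) by rw [hf z, inf_comm])) (hcompat z)
      rw [rs_rs, rs_rs] at h
      exact h
    rintro (_ | z) (_ | z')
    · rfl
    · exact hU' z'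
    · have h := congrArg (rs P (show V z ⊓ U ≤ U ⊓ V z by rw [inf_comm])) (hU' z)
      rw [rs_rs, rs_rs] at h
      exact h.symm
    · by_cases hzz : z = z'
      · subst hzz; rfl
      · have hle : V z ⊓ V z' ≤ U := fun y hy => by
          by_contra hn
          exact hzz (Subtype.ext ((huniq z y hy.1 hn).symm.trans (huniq z' y hy.2 hn)))
        have h1 := congrArg (rs P (le_inf hle inf_le_left : V z ⊓ V z' ≤ U ⊓ V z)) (hU' z)
        have h2 := congrArg (rs P (le_inf hle inf_le_right : V z ⊓ V z' ≤ U ⊓ V z')) (hU' z')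
        rw [rs_rs, rs_rs] at h1 h2
        exact h1.symm.trans h2)
  let Φ : Coh.structureModule X ⟶ P := Groth.L16.homOfSection P t
  have hkeyV : ∀ z : {z : X // z ∉ U}, z.1 ∉ CohB1.genLocus P Φ := fun z hzg => by
    have hF : IsFrame P (V z) (fr (rs _ le_top O1) (ε z) E₀) := isFrame_fr (hO1.mono le_top) (hε z) E₀
    have h := (genLocus_inf_eq Φ hF (a := f z * bb z) (by
      rw [secOf_homOfSection]; exact (ht (some z)).symm)).le ⟨hzg, hzV z⟩
    rw [X.basicOpen_mul] at h
    exact z.2 ((hf z).le h.1).2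
  have hgenP : ∀ η : {η : X // IsGen η}, η.1 ∈ CohB1.genLocus P Φ := fun η => by
    have hF : IsFrame P (W η) (fr (rs _ le_top O1) (e η) E₀) := isFrame_fr (hO1.mono le_top) (he η) E₀
    have h := genLocus_inf_eq Φ hF (a := a η ^ E₀) (by
      rw [secOf_homOfSection]
      have h1 := congrArg (rs P (hWU η)) (ht none)
      have h2 : rs P le_top t = rs P (hWU η) sU := (rs_rs P le_top (hWU η) t).symm.trans h1
      refine Eq.trans ?_ h2.symm
      show _ = rs (tw _ N E₀) _ (fr _ σ E₀)
      rw [fr_rs, hσ' η, fr_smul, rs_rs])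
    refine (h.ge ?_).1
    rw [X.basicOpen_pow _ hE₀]
    obtain ⟨c, hc, hci⟩ := hgen η
    have hcW : c ∈ (D η).i ⁻¹ᵁ W η := by show (D η).i c ∈ W η; rw [hci]; exact hmem η
    have := (genLocus_inf_eq (φ η) ((he η).pullback (D η).i N) (ha η)).le ⟨hc, hcW⟩
    rw [← Scheme.preimage_basicOpen] at this
    rw [← hci]
    exact this
  have hnc : ∀ x : X, ¬ IsClosed ({x} : Set X) → IsGen x := fun x hx y hy => by
    obtain ⟨w, hwx, hxw⟩ : ∃ w, w ≠ x ∧ x ⤳ w := by
      by_contra hh
      push Not at hh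
      exact hx (isClosed_of_closure_subset fun w hw => by
        by_contra hne
        exact hh w hne (specializes_iff_mem_closure.2 hw))
    rcases Groth.L21.RR.Top.spec_of_dim_le_one (X := X.toTopCat) hd y x w hy hxw with e' | e'
    · exact e'
    · exact absurd e'.symm hwx
  have hA : CohB1.IsAmple P := (isAmple_and_isAffineOpen k hd hP Φ
    (fun x hx => by
      by_contra hc
      exact hx (hgenP ⟨x, hnc x hc⟩))
    fun x hx => by
      obtain ⟨z, hxz, hzW⟩ := hz ⟨x, hnc x hx⟩ hx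
      have hzU : z ∉ U := fun h => by
        obtain ⟨η', hη'⟩ := Opens.mem_iSup.1 h
        exact hzW ((hsep η' ⟨x, hnc x hx⟩ z hη' hxz) ▸ hη')
      exact ⟨z, hxz, hkeyV ⟨z, hzU⟩⟩).1
  have hA' : CohB1.IsAmple (CohB1.tensorPow N E₀) := tw_unit N E₀ ▸ hA
  exact (Groth.L18.Ample.isAmple_pow_iff hN hE₀).2 hA'

end Groth.L22.CurveAmple
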