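import Groth.Agent.L22.CurveAmple.Stable
import Groth.Agent.L21.RR.Twist
import Groth.Agent.L03.Euler.Lead
import Groth.Agent.L03.Euler.Hilb

/-!
Sections of high powers of an ample module on an integral curve vanishing at prescribed points.
-/

set_option autoImplicit false
set_option backward.isDefEq.respectTransparency false
set_option linter.style.haveILetI false
universe u

open CategoryTheory CategoryTheory.Limits AlgebraicGeometry TopologicalSpace Opposite

noncomputable section

namespace Groth.L22.CurveAmple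

open Groth.L18.Frame (rs IsFrame)
open Groth.L18.GenLoc Groth.L18.Ample

theorem mem_support_quotMod {X : Scheme.{u}} (I : X.IdealSheafData) {p : X} (hp : p ∈ (I.support : Set X)) :
    p ∈ CohB1.support (ClSub.quotMod I) := by
  intro hs
  rw [← I.range_subschemeι] at hp
  obtain ⟨q, hq⟩ := hp
  obtain ⟨W, hpW, i₁, i₂, h⟩ := TopCat.Presheaf.germ_eq (ClSub.quotMod I).presheaf p
    (U := ⊤) (V := ⊤) trivial trivial
    (show Γ(ClSub.quotMod I, ⊤) from (1 : Γ(I.subscheme, I.subschemeι ⁻¹ᵁ ⊤))) 0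
    (@Subsingleton.elim _ hs _ _)
  have h1 : (1 : Γ(I.subscheme, I.subschemeι ⁻¹ᵁ W)) = 0 := by
    refine Eq.trans ?_ (h.trans (map_zero _))
    exact (map_one (I.subscheme.presheaf.map
      (homOfLE (I.subschemeι.preimage_mono (show W ≤ ⊤ from le_top))).op).hom).symm
  have h2 := congrArg I.subscheme.basicOpen h1
  rw [I.subscheme.basicOpen_of_isUnit isUnit_one, Scheme.basicOpen_zero] at h2
  exact (h2.le (x := q) (show I.subschemeι q ∈ W by rw [hq]; exact hpW))

theorem genericPoint_mem_genLocus {X : Scheme.{u}} [IsIntegral X] {N : X.Modules} (hN : PicF.IsInvertible N)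
    {φ : Coh.structureModule X ⟶ N} (hφ : φ ≠ 0) : genericPoint X ∈ CohB1.genLocus N φ := by
  obtain ⟨W, e, hηW, he⟩ := Groth.L18.Frame.exists_frame hN (genericPoint X)
  obtain ⟨a, ha⟩ := he.exists_coeff le_rfl (rs N le_top (secOf φ))
  rw [Groth.L18.Frame.rs_self] at ha
  have ha0 : a ≠ 0 := by
    intro h0
    refine Groth.L21.RR.st_one_ne_zero hN hφ (genericPoint X) ?_
    rw [Groth.L21.RR.st_one φ _ hηW]
    show N.presheaf.germ W _ hηW (rs N le_top (secOf φ)) = 0
    rw [← ha, h0, zero_smul, map_zero]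
  have hne : (X.basicOpen a : Set X).Nonempty := by
    rw [Set.nonempty_iff_ne_empty]
    intro h
    exact ha0 ((basicOpen_eq_bot_iff a).1 (TopologicalSpace.Opens.ext h))
  rw [← genLocus_inf_eq φ he ha] at hne
  obtain ⟨y, hy⟩ := hne
  exact ((genericPoint_spec X).specializes trivial).mem_open (CohB1.genLocus N φ).2 hy.1

variable (k : Type u) [Field k] {X : Scheme.{u}} [X.Over (Spec (CommRingCat.of k))]
  [IsProper (X ↘ Spec (CommRingCat.of k))] [IsIntegral X]

include k in
theorem exists_section_vanishing (hdim : topologicalKrullDim X = 1) {L : X.Modules} (hL : CohB1.IsAmple L)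
    {S : Set X} (hS : IsClosed S) (hη : genericPoint X ∉ S) :
    ∃ n₀ : ℕ, ∀ n, n₀ ≤ n → ∃ φ : Coh.structureModule X ⟶ CohB1.tensorPow L n,
      genericPoint X ∈ CohB1.genLocus _ φ ∧ ∀ p ∈ S, p ∉ CohB1.genLocus _ φ := by
  haveI := Groth.L21.RR.isNoetherian_of_proper (X := X) k
  let I := Scheme.IdealSheafData.vanishingIdeal (⟨S, hS⟩ : Closeds X)
  have hI : (I.support : Set X) = S := Scheme.IdealSheafData.coe_support_vanishingIdeal _
  have hIc := Groth.L21.RR.isCoh_idealMod I
  have hu : CohB1.support (ClSub.idealMod I) = Set.univ := by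
    refine Set.univ_subset_iff.1 ?_
    rw [← genericPoint_closure X]
    refine closure_minimal (Set.singleton_subset_iff.2 ?_) (Groth.L16.CohSupport.isClosed_support _ hIc.2)
    have h : CohB1.support (Coh.structureModule X) =
        CohB1.support (ClSub.idealMod I) ∪ CohB1.support (ClSub.quotMod I) :=
      Groth.L21.Mod.support_of_shortExact (Groth.L21.RR.shortExact_idealSeq I)
    rw [support_eq_univ (isInvertible_structureModule X)] at h
    exact (h.le (Set.mem_univ (genericPoint X))).resolve_right fun hq =>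
      hq (Groth.L21.RR.subsingleton_stalk_quotMod I (by rw [hI]; exact hη))
  have hsupp : topologicalKrullDim (CohB1.support (ClSub.idealMod I)) = ((1 : ℕ) : WithBot ℕ∞) := by
    rw [hu, Nat.cast_one, ← hdim]
    exact (Homeomorph.Set.univ X).isHomeomorph.topologicalKrullDim_eq
  obtain ⟨P, hPd, hP⟩ := Groth.L03.Euler.exists_isHilbPoly (k := k) hL.1 hIc hsupp.le
  have hc := (Groth.L03.Euler.natDegree_eq_and_coeff_pos (k := k) hL hIc hsupp hP).2
  obtain ⟨n₀, hn₀⟩ := exists_nat_gt ((-P.coeff 0) / P.coeff 1)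
  refine ⟨n₀, fun n hn => ?_⟩
  have hN : PicF.IsInvertible (CohB1.tensorPow L n) := isInvertible_tensorPow hL.1 n
  have hd : topologicalKrullDim X ≤ 1 := hdim.le
  let M := CohB1.tensorMod (CohB1.tensorPow L n) (ClSub.idealMod I)
  have hχ : 0 < Curv2.euler k X M := by
    have h : (Curv2.euler k X M : ℚ) = P.coeff 0 + P.coeff 1 * n := by
      rw [Groth.L03.Euler.euler_iso (Groth.L00.Tensor.tensorComm (CohB1.tensorPow L n) (ClSub.idealMod I))]
      refine (hP n).trans ?_
      rw [Polynomial.eval_eq_sum_range' (show P.natDegree < 2 by omega)]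
      simp [Finset.sum_range_succ]
    have h' : (0 : ℚ) < P.coeff 0 + P.coeff 1 * (n : ℚ) := by
      rw [div_lt_iff₀ hc] at hn₀
      have : (n₀ : ℚ) ≤ n := by exact_mod_cast hn
      nlinarith
    rw [← h] at h'
    exact_mod_cast h'
  haveI : Nontrivial (Coh.HH X M 0) := by
    by_contra hn'
    rw [not_nontrivial_iff_subsingleton] at hn'
    rw [Groth.L21.RR.euler_eq k hd, Groth.L21.RR.h_eq_zero_of_subsingleton k hn'] at hχ
    omega
  obtain ⟨ψ, hψ⟩ := Groth.L21.RR.exists_hom_ne_zero (L := M)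
  have hse := Groth.L21.RR.shortExact_tw I hN
  haveI : Mono (Groth.L21.RR.twι (CohB1.tensorPow L n) I) := hse.mono_f
  refine ⟨ψ ≫ Groth.L21.RR.twι (CohB1.tensorPow L n) I,
    genericPoint_mem_genLocus hN (fun h => hψ ((cancel_mono _).1 (h.trans zero_comp.symm))), fun p hp hg => ?_⟩
  have hsurj : Function.Surjective ((Groth.L00.Stk.F X p).map (ψ ≫ Groth.L21.RR.twι (CohB1.tensorPow L n) I)) := by
    have hb := Groth.L03.Euler.bijective_toSpanSingleton_germ (isFrame_genLocus _) hg
    rw [Groth.L20.ModStalk.germ_rs] at hb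
    obtain ⟨g, -, hgs⟩ := Groth.L03.Euler.stalk_section (ψ ≫ Groth.L21.RR.twι (CohB1.tensorPow L n) I) p
    intro v
    obtain ⟨r, hr⟩ := hb.2 v
    exact ⟨g r, (LinearMap.congr_fun hgs r).trans hr⟩
  have hq : p ∈ CohB1.support (CohB1.tensorMod (CohB1.tensorPow L n) (ClSub.quotMod I)) := by
    intro hsub
    refine mem_support_quotMod I (by rw [hI]; exact hp) ?_
    obtain ⟨e, he⟩ := Groth.L21.RR.exists_frame_stalk hN p
    haveI : Subsingleton ((CohB1.tensorMod (CohB1.tensorPow L n) (ClSub.quotMod I)).presheaf.stalk p) := hsub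
    exact (Groth.L21.RR.tensorStalkEquiv (ClSub.quotMod I) he).symm.toEquiv.subsingleton
  refine hq ⟨fun a b => ?_⟩
  haveI := hse.epi_g
  have h0 : ∀ a : (Groth.L00.Stk.F X p).obj (CohB1.tensorMod (CohB1.tensorPow L n) (ClSub.quotMod I)), a = 0 := by
    intro a
    obtain ⟨v, rfl⟩ := (ModuleCat.epi_iff_surjective
      ((Groth.L00.Stk.F X p).map (Groth.L21.RR.twπ (CohB1.tensorPow L n) I))).1 (Functor.map_epi _ _) a
    obtain ⟨w, rfl⟩ := hsurj v
    rw [← ModuleCat.comp_apply, ← Functor.map_comp, Category.assoc, Groth.L21.RR.twι_twπ, comp_zero,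
      Functor.map_zero]
    rfl
  exact (h0 a).trans (h0 b).symm

end Groth.L22.CurveAmple
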