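import Groth.Agent.L22.DimOneAmple.Affine
import Groth.Agent.L22.PicGlue.Cocycle
import Groth.Agent.L18.AmpleOps

/-!
An invertible module with a section cutting out the complement of an open containing all generic points.
-/

set_option autoImplicit false
set_option linter.style.haveILetI false
universe u

open CategoryTheory AlgebraicGeometry TopologicalSpace Opposite

noncomputable section

namespace Groth.L22.CurveAmple

open Groth.L21.Extend (rO rO_rO)
open Groth.L22.PicGlue Groth.L22.DimOneAmple Groth.L22.FinAff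

variable {X : Scheme.{u}}

/-- Local equations for the complement of an open. -/
structure DivData (U : X.Opens) where
  κ : Type u
  M : κ → X.Opens
  φ : ∀ k, Γ(X, M k)
  inter : ∀ k l, k ≠ l → M k ⊓ M l ≤ U
  unit : ∀ k, IsUnit (rO X (inf_le_left : M k ⊓ U ≤ M k) (φ k))
  notMem : ∀ k x, x ∈ X.basicOpen (φ k) → x ∈ U
  cover : ∀ x, x ∉ U → ∃ k, x ∈ M k

variable {U : X.Opens} (D : DivData U)

/-- The cover. -/
@[reducible] def DivData.N : Option D.κ → X.Opens
  | none => U
  | some k => D.M k

theorem DivData.le_U {i j : Option D.κ} (h : i ≠ j) : D.N i ⊓ D.N j ≤ U := by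
  rcases i with _ | k
  · exact inf_le_left
  rcases j with _ | l
  · exact inf_le_right
  · exact D.inter k l fun he => h (he ▸ rfl)

/-- The coefficient of `1`. -/
def DivData.c : ∀ i, Γ(X, D.N i)
  | none => 1
  | some k => D.φ k

theorem DivData.c_unit : ∀ i, IsUnit (rO X (inf_le_left : D.N i ⊓ U ≤ D.N i) (D.c i))
  | none => by
    show IsUnit (rO X _ (1 : Γ(X, U)))
    rw [Groth.L22.PicGlue.rO_one]
    exact isUnit_one
  | some k => D.unit k

/-- Its inverse on the open. -/
def DivData.e (i : Option D.κ) : Γ(X, D.N i ⊓ U) := ↑(D.c_unit i).unit⁻¹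

theorem DivData.c_mul_e (i : Option D.κ) :
    rO X (inf_le_left : D.N i ⊓ U ≤ D.N i) (D.c i) * D.e i = 1 :=
  IsUnit.mul_val_inv (D.c_unit i)

open Classical in
/-- The transition functions. -/
def DivData.tr (i j : Option D.κ) : Γ(X, D.N i ⊓ D.N j) :=
  if h : i = j then 1 else rO X inf_le_left (D.c i) * rO X (le_inf inf_le_right (D.le_U h)) (D.e j)

theorem DivData.tr_eq (i j : Option D.κ) {W : X.Opens} (hi : W ≤ D.N i) (hj : W ≤ D.N j) (hU : W ≤ U) :
    rO X (le_inf hi hj) (D.tr i j) = rO X hi (D.c i) * rO X (le_inf hj hU) (D.e j) := by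
  unfold DivData.tr
  split
  · rename_i h
    subst h
    have := congrArg (rO X (le_inf hi hU : W ≤ D.N i ⊓ U)) (D.c_mul_e i)
    simp only [Groth.L22.PicGlue.rO_mul, rO_rO, Groth.L22.PicGlue.rO_one] at this
    rw [this, Groth.L22.PicGlue.rO_one]
  · simp only [Groth.L22.PicGlue.rO_mul, rO_rO]

theorem DivData.tr_self (i : Option D.κ) : D.tr i i = 1 := dif_pos rfl

/-- The cocycle. -/
@[reducible] def DivData.cocycle : Cocycle X where
  ι := Option D.κ
  N := D.N
  g := D.tr
  one := D.tr_self
  comp i j k := by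
    by_cases hij : i = j
    · subst hij
      rw [D.tr_self, Groth.L22.PicGlue.rO_one, one_mul]
    by_cases hjk : j = k
    · subst hjk
      rw [D.tr_self, Groth.L22.PicGlue.rO_one, mul_one]
    set W := D.N i ⊓ D.N j ⊓ D.N k
    have hi : W ≤ D.N i := inf_le_left.trans inf_le_left
    have hj : W ≤ D.N j := inf_le_left.trans inf_le_right
    have hk : W ≤ D.N k := inf_le_right
    have hU : W ≤ U := inf_le_left.trans (D.le_U hij)
    show rO X (le_inf hi hj) (D.tr i j) * rO X (le_inf hj hk) (D.tr j k) = rO X (le_inf hi hk) (D.tr i k)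
    rw [D.tr_eq i j hi hj hU, D.tr_eq j k hj hk hU, D.tr_eq i k hi hk hU]
    have := congrArg (rO X (le_inf hj hU : W ≤ D.N j ⊓ U)) (D.c_mul_e j)
    simp only [Groth.L22.PicGlue.rO_mul, rO_rO, Groth.L22.PicGlue.rO_one] at this
    linear_combination (rO X hi (D.c i) * rO X (le_inf hk hU) (D.e k)) * this

/-- The module. -/
@[reducible] def DivData.L : X.Modules := glueMod D.cocycle

theorem DivData.cover_all (x : X) : ∃ i, x ∈ D.N i := by
  by_cases hx : x ∈ U
  · exact ⟨none, hx⟩
  · exact (D.cover x hx).elim fun k hk => ⟨some k, hk⟩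

theorem DivData.isInvertible : PicF.IsInvertible D.L := isInvertible_glueMod _ D.cover_all

/-- The canonical section. -/
theorem DivData.exists_hom :
    ∃ s : Coh.structureModule X ⟶ D.L, CohB1.genLocus D.L s = U := by
  obtain ⟨σ, hσ⟩ := exists_section D.cocycle (V := ⊤) (fun i => rO X inf_le_right (D.c i)) fun i j => by
    by_cases hij : i = j
    · subst hij
      rw [show D.cocycle.g i i = 1 from D.tr_self i, Groth.L22.PicGlue.rO_one, one_mul]
    set W := (⊤ : X.Opens) ⊓ (D.N i ⊓ D.N j)
    have hi : W ≤ D.N i := inf_le_right.trans inf_le_left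
    have hj : W ≤ D.N j := inf_le_right.trans inf_le_right
    have hU : W ≤ U := inf_le_right.trans (D.le_U hij)
    simp only [rO_rO]
    show rO X hi (D.c i) = rO X (le_inf hi hj) (D.tr i j) * rO X hj (D.c j)
    have e3 := congrArg (rO X (le_inf hj hU : W ≤ D.N j ⊓ U)) (D.c_mul_e j)
    simp only [Groth.L22.PicGlue.rO_mul, rO_rO, Groth.L22.PicGlue.rO_one] at e3
    rw [D.tr_eq i j hi hj hU]
    linear_combination (-(rO X hi (D.c i))) * e3
  have key : ∀ i, CohB1.genLocus D.L (Groth.L16.homOfSection D.L σ) ⊓ D.N i = X.basicOpen (D.c i) := fun i => by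
    refine Groth.L18.GenLoc.genLocus_inf_eq _ (e := gen D.cocycle i) (isGen_gen D.cocycle i) ?_
    rw [Groth.L18.GenLoc.secOf_homOfSection]
    have h1 := smul_gen_eq D.cocycle i (le_refl _) (Groth.L21.Extend.rs D.L le_top σ)
    rw [Groth.L21.Extend.rs_self] at h1
    have h2 : coef D.cocycle i (le_refl _) (Groth.L21.Extend.rs D.L le_top σ) = D.c i := by
      rw [coef, coords_rs, hσ]
      simp only [rO_rO]
      exact Groth.L22.PicGlue.rO_self _ _
    rw [h2] at h1
    exact h1
  refine ⟨Groth.L16.homOfSection D.L σ, le_antisymm (fun y hy => ?_) fun y hy => ?_⟩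
  · by_contra hn
    obtain ⟨k, hk⟩ := D.cover y hn
    exact hn (D.notMem k y ((key (some k)).le ⟨hy, hk⟩))
  · have h : y ∈ X.basicOpen (1 : Γ(X, U)) := by rw [X.basicOpen_of_isUnit isUnit_one]; exact hy
    exact ((key none).ge h).1

/-- In dimension one the finite complement of an open containing the generic points is a divisor. -/
theorem exists_section_compl [IsNoetherian X] (hdim : topologicalKrullDim X ≤ 1) (U : X.Opens)
    (hgen : ∀ η : X, IsGen η → η ∈ U) :
    ∃ (L : X.Modules) (φ : Coh.structureModule X ⟶ L), PicF.IsInvertible L ∧ CohB1.genLocus L φ = U := by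
  choose P hPV hPz using fun z : {z : X // z ∉ U} =>
    exists_punct hdim U hgen z.2 ⊤ (TopologicalSpace.Opens.mem_top z.1)
  let D : DivData U :=
    { κ := {z : X // z ∉ U}
      M := fun z => (P z).V
      φ := fun z => (P z).f
      inter := fun k l hkl y hy => by
        by_contra hn
        exact hkl (Subtype.ext ((hPz k y hy.1 hn).symm.trans (hPz l y hy.2 hn)))
      unit := fun z => by
        have h := RingedSpace.isUnit_res_basicOpen (X := X.toLocallyRingedSpace.toRingedSpace) (P z).f
        have h' := IsUnit.map (X.presheaf.map (homOfLE (P z).basicOpen_eq.ge).op).hom h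
        refine Eq.mpr (congrArg IsUnit ?_) h'
        exact (rO_rO (P z).basicOpen_eq.ge (X.basicOpen_le (P z).f) _).symm
      notMem := fun z y hy => ((P z).basicOpen_eq.le hy).2
      cover := fun x hx => ⟨⟨x, hx⟩, (P ⟨x, hx⟩).mem⟩ }
  obtain ⟨s, hs⟩ := D.exists_hom
  exact ⟨D.L, s, D.isInvertible, hs⟩

end Groth.L22.CurveAmple
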