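import Groth.Agent.L22.CurveAmple.Stable
import Groth.Agent.L22.VeryAmple.Over
import Groth.Agent.L18.SpecLine
import Groth.Agent.L18.CurveBasic
import Groth.Agent.L21.RR.TopVanish
import Mathlib.AlgebraicGeometry.ZariskisMainTheorem

/-!
Ampleness criterion in dimension one: a section whose zero locus is finite and meets every component.
-/

set_option autoImplicit false
set_option backward.isDefEq.respectTransparency false
set_option linter.style.haveILetI false
universe u

open CategoryTheory AlgebraicGeometry TopologicalSpace Opposite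

noncomputable section

namespace Groth.L22.CurveAmple

open Groth.L18.Frame (rs ro rs_rs rs_self IsFrame)
open Groth.L18.GenLoc Groth.L18.Ample

variable {X : Scheme.{u}} (k : Type u) [Field k] [X.Over (Spec (CommRingCat.of k))]
  [IsProper (X ↘ Spec (CommRingCat.of k))]

include k in
/-- A morphism to projective space with one hyperplane having finite preimage is finite. -/
theorem isFinite_of_preimage (hd : topologicalKrullDim X ≤ 1) {P : Scheme.{u}} (r : X ⟶ P) [IsProper r]
    (D : P.Opens) (hcl : ∀ x, r x ∉ D → IsClosed ({x} : Set X))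
    (hmeet : ∀ x : X, ¬ IsClosed ({x} : Set X) → ∃ z, x ⤳ z ∧ r z ∉ D) : IsFinite r := by
  haveI := Groth.L21.RR.isNoetherian_of_proper (X := X) k
  have hspec := fun a b c => Groth.L21.RR.Top.spec_of_dim_le_one (X := X.toTopCat) hd a b c
  have hfin : {x : X | ¬ IsClosed ({x} : Set X)}.Finite :=
    Groth.L21.RR.Top.finite_not_isClosed (X := X.toTopCat) hspec
  have hne : ∀ x : X, ¬ IsClosed ({x} : Set X) → ¬ IsClosed ({r x} : Set P) := by
    intro x hx hc
    obtain ⟨z, hxz, hz⟩ := hmeet x hx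
    have h : r z = r x := by
      simpa [hc.closure_eq] using specializes_iff_mem_closure.1 (hxz.map r.continuous)
    exact hx (hcl x (h ▸ hz))
  haveI : LocallyQuasiFinite r := LocallyQuasiFinite.of_finite_preimage_singleton r fun p => by
    by_cases hp : IsClosed ({p} : Set P)
    · exact Groth.L18.Curve.finite_of_forall_isClosed (hp.preimage r.continuous) fun x hx => by
        by_contra hc
        exact hne x hc ((show r x = p from hx) ▸ hp)
    · refine hfin.subset fun x hx hc => hp ?_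
      have := r.isClosedMap _ hc
      rwa [Set.image_singleton, show r x = p from hx] at this
  exact IsFinite.of_isProper_of_locallyQuasiFinite r

include k in
/-- Ampleness and affineness of the non-vanishing locus. -/
theorem isAmple_and_isAffineOpen (hd : topologicalKrullDim X ≤ 1) {L : X.Modules}
    (hL : PicF.IsInvertible L) (φ : Coh.structureModule X ⟶ L)
    (hZ : ∀ x, x ∉ CohB1.genLocus L φ → IsClosed ({x} : Set X))
    (hmeet : ∀ x : X, ¬ IsClosed ({x} : Set X) → ∃ z, x ⤳ z ∧ z ∉ CohB1.genLocus L φ) :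
    CohB1.IsAmple L ∧ IsAffineOpen (CohB1.genLocus L φ) := by
  classical
  haveI := Groth.L21.RR.isNoetherian_of_proper (X := X) k
  obtain ⟨n₀, hn₀⟩ := exists_sections k hd hL φ hZ
  have hN : PicF.IsInvertible (CohB1.tensorPow L (n₀ + 1)) := isInvertible_tensorPow hL _
  obtain ⟨s₀, hs₀⟩ := exists_pow_section hL φ n₀
  choose t ht using hn₀ n₀ le_rfl
  obtain ⟨T, hT⟩ := isCompact_univ.elim_finite_subcover
    (fun o : Option {z : X // z ∉ CohB1.genLocus L φ} =>
      ((o.elim (CohB1.genLocus _ s₀) fun z => CohB1.genLocus _ (t z.1 z.2) : X.Opens) : Set X))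
    (fun o => Opens.isOpen _)
    (fun x _ => by
      by_cases hx : x ∈ CohB1.genLocus L φ
      · exact Set.mem_iUnion.2 ⟨none, by rw [← hs₀] at hx; exact hx⟩
      · exact Set.mem_iUnion.2 ⟨some ⟨x, hx⟩, ht x hx⟩)
  let m : ℕ := Fintype.card (↥T)
  let e : Option (↥T) ≃ Fin (m + 1) := Fintype.equivFinOfCardEq (Fintype.card_option (α := ↥T))
  let S₀ : Option (↥T) → (Coh.structureModule X ⟶ CohB1.tensorPow L (n₀ + 1)) := fun o =>
    o.elim s₀ fun a => a.1.elim s₀ fun z => t z.1 z.2
  let S : Fin (m + 1) → Γ(CohB1.tensorPow L (n₀ + 1), ⊤) := fun j => secOf (S₀ (e.symm j))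
  let j₀ : Fin (m + 1) := e none
  have hgen : ProjUP.GeneratedBy (CohB1.tensorPow L (n₀ + 1)) S :=
    Groth.L18.SpecLine.generatedBy_of_frames (ι := Fin (m + 1)) S fun x => by
      obtain ⟨o, hoT, hxo⟩ := Set.mem_iUnion₂.1 (hT (Set.mem_univ x))
      have hS : S₀ (some ⟨o, hoT⟩) = o.elim s₀ fun z => t z.1 z.2 := rfl
      refine ⟨CohB1.genLocus _ (S₀ (some ⟨o, hoT⟩)), e (some ⟨o, hoT⟩), ?_, ?_⟩
      · rw [hS]
        rcases o with _ | z <;> exact hxo
      · simp only [S, Equiv.symm_apply_apply]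
        have := isFrame_genLocus (S₀ (some ⟨o, hoT⟩))
        exact this
  obtain ⟨r, hr, τ, hτ⟩ := Groth.L18.PUP.exists_hom (X ↘ Spec (CommRingCat.of k)) _ hN S hgen
  have hτrs : ∀ (W : X.Opens) (j : Fin (m + 1)),
      τ.hom.app W (rs _ le_top (Groth.L18.PUP.rT r j)) = rs _ le_top (S j) := fun W j => by
    rw [← hτ j]
    exact congr($(τ.hom.mapPresheaf.naturality (homOfLE (le_top : W ≤ ⊤)).op) (Groth.L18.PUP.rT r j))
  have hframe : ∀ (W : X.Opens) (j : Fin (m + 1)),
      IsFrame ((Scheme.Modules.pullback r).obj (Groth.L18.PUP.O1 m k)) W (rs _ le_top (Groth.L18.PUP.rT r j)) ↔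
        IsFrame (CohB1.tensorPow L (n₀ + 1)) W (rs _ le_top (S j)) := fun W j => by
    refine forall_congr' fun V => forall_congr' fun hV => ?_
    have e1 : (fun b : Γ(X, V) => b • rs (CohB1.tensorPow L (n₀ + 1)) hV (rs _ le_top (S j))) =
        τ.hom.app V ∘ fun b => b • rs ((Scheme.Modules.pullback r).obj (Groth.L18.PUP.O1 m k)) hV
          (rs _ le_top (Groth.L18.PUP.rT r j)) := by
      funext b
      simp only [rs_rs, Function.comp_apply, Scheme.Modules.Hom.app_smul, hτrs]
    rw [e1]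
    exact (Function.Bijective.of_comp_iff' (ConcreteCategory.bijective_of_isIso (τ.hom.app V)) _).symm
  have hj : S₀ (e.symm j₀) = s₀ := by simp [j₀, S₀]
  have hSj : S j₀ = secOf s₀ := congrArg secOf hj
  have hpre : r ⁻¹ᵁ Groth.L18.PUP.D j₀ = CohB1.genLocus L φ := by
    rw [← hs₀]
    refine le_antisymm (le_genLocus s₀ ?_) (Groth.L18.PUP.le_preimage_of_frame r ((hframe _ _).2 ?_))
    · have h := (hframe _ _).1 (Groth.L18.PUP.rT_frame r j₀)
      rw [hSj] at h
      exact h
    · rw [hSj]
      exact isFrame_genLocus s₀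
  haveI : (Groth.L18.PUP.P m k).IsSeparated :=
    Groth.L18.Ample.isSeparated_of_isAmple (Groth.L22.VeryAmple.isAmple_O1 m k)
  haveI : IsProper (r ≫ Groth.L18.PUP.pr m k) := by rw [hr]; infer_instance
  haveI : IsSeparated (Groth.L18.PUP.pr m k) := inferInstance
  haveI : IsProper r := IsProper.of_comp r (Groth.L18.PUP.pr m k)
  have hmem : ∀ x : X, r x ∈ Groth.L18.PUP.D (R := k) j₀ ↔ x ∈ CohB1.genLocus L φ := fun x =>
    Iff.of_eq (congrArg (fun V : X.Opens => x ∈ V) hpre)
  haveI : IsFinite r := isFinite_of_preimage k hd r (Groth.L18.PUP.D j₀)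
    (fun x hx => hZ x fun h => hx ((hmem x).2 h)) fun x hx => by
      obtain ⟨z, hz, hz'⟩ := hmeet x hx
      exact ⟨z, hz, fun h => hz' ((hmem z).1 h)⟩
  refine ⟨(Groth.L18.Ample.isAmple_pow_iff hL n₀.succ_pos).2
    (Groth.L18.Ample.isAmple_of_iso τ
      (Groth.L18.Ample.isAmple_pullback_of_isAffineHom r (Groth.L22.VeryAmple.isAmple_O1 m k))), ?_⟩
  rw [← hpre]
  exact IsAffineOpen.preimage (Proj.isAffineOpen_basicOpen _ _ (Groth.L18.PS.X_mem m j₀) one_pos) r

end Groth.L22.CurveAmple
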