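import Groth.Agent.S1625
import Groth.Agent.L22.Completion.Dim
import Groth.Agent.L22.CurveAmple.Boundary
import Groth.Agent.L22.CurveAmple.Main
import Groth.Agent.L16.ProjSpace.Basic

/-!
An open of a projective scheme of dimension one, whose boundary meets every component, is affine.
-/

set_option autoImplicit false
set_option backward.isDefEq.respectTransparency false
set_option linter.style.haveILetI false
universe u

open CategoryTheory AlgebraicGeometry TopologicalSpace Opposite

noncomputable section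

namespace Groth.L22.CurveAmple

variable (k : Type u) [Field k]

include k in
/-- An open containing the generic points, with boundary meeting every component, is affine. -/
theorem isAffineOpen_of_boundary {Y : Scheme.{u}} [Y.Over (Spec (CommRingCat.of k))]
    [IsProper (Y ↘ Spec (CommRingCat.of k))] (hd : topologicalKrullDim Y ≤ 1) (U : Y.Opens)
    (hgen : ∀ η : Y, Groth.L22.FinAff.IsGen η → η ∈ U)
    (hmeet : ∀ y : Y, ¬ IsClosed ({y} : Set Y) → ∃ z, y ⤳ z ∧ z ∉ U) : IsAffineOpen U := by
  haveI := Groth.L21.RR.isNoetherian_of_proper (X := Y) k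
  obtain ⟨L, φ, hL, hφ⟩ := exists_section_compl hd U hgen
  obtain ⟨-, hcl⟩ := Groth.L22.PicGlue.finite_compl hd U hgen
  rw [← hφ] at hmeet hcl ⊢
  exact (isAmple_and_isAffineOpen k hd hL φ (fun y hy => hcl y hy) hmeet).2

/-- A projective completion with the properties needed. -/
theorem exists_completion (X : Scheme.{u}) [X.Over (Spec (CommRingCat.of k))]
    [IsSeparated (X ↘ (Spec (CommRingCat.of k)))] [LocallyOfFiniteType (X ↘ (Spec (CommRingCat.of k)))]
    [QuasiCompact (X ↘ (Spec (CommRingCat.of k)))] (hdim : topologicalKrullDim X ≤ 1) :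
    ∃ (d : ℕ) (Y : Scheme.{u}) (c : Y ⟶ CohB1.ProjSpace d k) (j : X ⟶ Y), IsClosedImmersion c ∧
      IsOpenImmersion j ∧ j ≫ c ≫ CohB1.ProjSpace.toSpec d k = X ↘ (Spec (CommRingCat.of k)) ∧
      IsProper (c ≫ CohB1.ProjSpace.toSpec d k) ∧ topologicalKrullDim Y ≤ 1 ∧
      (∀ η : Y, Groth.L22.FinAff.IsGen η → η ∈ Set.range j.base) ∧ Dense (Set.range j.base) := by
  obtain ⟨d, Y, c, j, hc, hj, hjc, hdense, -, hfin, hcl⟩ := Groth.Agent.S1625.result k X hdim
  haveI := hc
  haveI := hj
  haveI : IsProper (CohB1.ProjSpace.toSpec d k) := Groth.L16.ProjSpace.isProper_toSpec d k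
  haveI hp : IsProper (c ≫ CohB1.ProjSpace.toSpec d k) := inferInstance
  letI : Y.Over (Spec (CommRingCat.of k)) := ⟨c ≫ CohB1.ProjSpace.toSpec d k⟩
  haveI : IsProper (Y ↘ Spec (CommRingCat.of k)) := hp
  haveI : LocallyOfFiniteType (Y ↘ Spec (CommRingCat.of k)) := inferInstance
  haveI := Groth.L21.RR.isNoetherian_of_proper (X := Y) k
  have hU : topologicalKrullDim (j.opensRange : Set Y) ≤ 1 :=
    (j.isOpenEmbedding.toIsEmbedding.toHomeomorph.isHomeomorph.topologicalKrullDim_eq).symm.trans_le hdim
  refine ⟨d, Y, c, j, hc, hj, hjc, hp, Groth.L22.Completion.dim_le_one k Y j.opensRange hdense hU,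
    fun η hη => ?_, hdense⟩
  obtain ⟨η', hη'⟩ := QuasiSober.sober (isIrreducible_irreducibleComponent (x := η))
    isClosed_irreducibleComponent
  obtain ⟨O, hO, hOn, hOZ⟩ := NoetherianSpace.exists_isOpen_nonempty_subset_irreducibleComponent
    (irreducibleComponent η) (irreducibleComponent_mem_irreducibleComponents η)
  obtain ⟨z, hzO, hzU⟩ := hdense.inter_open_nonempty O hO hOn
  have hzc : η' ⤳ z := hη'.specializes (hOZ hzO)
  have := hzc.mem_open j.opensRange.2 hzU
  rwa [hη η' (hη'.specializes mem_irreducibleComponent)] at this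

end Groth.L22.CurveAmple
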