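import Groth.Agent.L21.RR.Sections
import Groth.Agent.L21.RR.Finite
import Groth.Agent.L03.Euler.Section
import Groth.Agent.L18.AmpleGG

/-!
Sections of high powers of an invertible module with a section vanishing at finitely many points.
-/

set_option autoImplicit false
set_option linter.style.haveILetI false
universe u

open CategoryTheory CategoryTheory.Limits AlgebraicGeometry TopologicalSpace Opposite

noncomputable section

namespace Groth.L22.CurveAmple

open Groth.L18.Frame (rs ro rs_rs rs_self IsFrame)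
open Groth.L18.GenLoc Groth.L18.Ample
open Groth.L16.CohLinear (hmap hmap_comp exact_delta_hmap exact_hmap_delta delta)
open Groth.L21.RR (SuppClosed hk finite_HH')
open Groth.L03.Euler (mulSection bijective_mulSection notMem_support_cokernel_iff support_cokernel_mulSection)

variable {X : Scheme.{u}}

theorem support_eq_univ {M : X.Modules} (hM : PicF.IsInvertible M) :
    CohB1.support M = Set.univ := by
  refine Set.eq_univ_of_forall fun x hs => ?_
  have hs' : Subsingleton (M.presheaf.stalk x) := hs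
  obtain ⟨e, he⟩ := Groth.L21.RR.exists_frame_stalk hM x
  exact one_ne_zero (he.1 (hs'.elim ((1 : X.presheaf.stalk x) • e) ((0 : X.presheaf.stalk x) • e)))

/-- A power of a section, with the same locus. -/
theorem exists_pow_section {L : X.Modules} (hL : PicF.IsInvertible L)
    (φ : Coh.structureModule X ⟶ L) :
    ∀ n : ℕ, ∃ s : Coh.structureModule X ⟶ CohB1.tensorPow L (n + 1),
      CohB1.genLocus _ s = CohB1.genLocus L φ
  | 0 => by
    refine ⟨tensHom (L := Coh.structureModule X) (𝟙 (Coh.structureModule X)) φ, ?_⟩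
    refine (genLocus_tensHom (isInvertible_structureModule X) hL _ φ).trans ?_
    rw [genLocus_id, top_inf_eq]
  | n + 1 => by
    obtain ⟨s, hs⟩ := exists_pow_section hL φ n
    refine ⟨tensHom s φ, ?_⟩
    show CohB1.genLocus (CohB1.tensorMod (CohB1.tensorPow L (n + 1)) L) _ = _
    rw [genLocus_tensHom (isInvertible_tensorPow hL _) hL, hs, inf_idem]

theorem suppClosed_cokernel_mulSection {L : X.Modules} (φ : Coh.structureModule X ⟶ L)
    (hZ : ∀ x, x ∉ CohB1.genLocus L φ → IsClosed ({x} : Set X)) (M : X.Modules) :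
    SuppClosed (cokernel (mulSection M φ)) := by
  intro x hx
  exact not_not.1 ((notMem_support_cokernel_iff _).2
    (bijective_mulSection M φ (not_not.1 fun h => hx (hZ x h))).2)

variable (k : Type u) [Field k] [X.Over (Spec (CommRingCat.of k))]
  [IsProper (X ↘ Spec (CommRingCat.of k))]

include k in
/-- High powers have sections generating at the zero locus. -/
theorem exists_sections (hd : topologicalKrullDim X ≤ 1) {L : X.Modules} (hL : PicF.IsInvertible L)
    (φ : Coh.structureModule X ⟶ L) (hZ : ∀ x, x ∉ CohB1.genLocus L φ → IsClosed ({x} : Set X)) :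
    ∃ n₀ : ℕ, ∀ n, n₀ ≤ n → ∀ z, z ∉ CohB1.genLocus L φ →
      ∃ t : Coh.structureModule X ⟶ CohB1.tensorPow L (n + 1), z ∈ CohB1.genLocus _ t := by
  haveI := Groth.L21.RR.isNoetherian_of_proper (X := X) k
  let a : ℕ → ℕ := fun n => Groth.L21.RR.h k 1 (CohB1.tensorPow L n)
  have hcoh : ∀ n, Coh.IsCoh (CohB1.tensorPow L n) := fun n =>
    isCoh_of_isInvertible (isInvertible_tensorPow hL n)
  haveI : ∀ n i, Module.Finite k (Coh.HH X (CohB1.tensorPow L n) i) := fun n i => finite_HH' k (hcoh n) i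
  let ψ : ∀ n, CohB1.tensorPow L n ⟶ CohB1.tensorPow L (n + 1) := fun n => mulSection _ φ
  have hψ : ∀ n, SuppClosed (cokernel (ψ n)) := fun n => suppClosed_cokernel_mulSection φ hZ _
  have hsurj : ∀ n, Function.Surjective (hk k (ψ n) 1) := fun n =>
    Groth.L21.RR.surjective_hmap_one_of_suppClosed hd (ψ n) (hψ n)
  have hanti : Antitone a := antitone_nat_of_succ_le fun n =>
    LinearMap.finrank_le_finrank_of_surjective (hsurj n)
  obtain ⟨_, ⟨n₀, rfl⟩, hmin⟩ := WellFounded.has_min (r := ((· < ·) : ℕ → ℕ → Prop)) wellFounded_lt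
    (Set.range a) (Set.range_nonempty a)
  refine ⟨n₀, fun n hn z hz => ?_⟩
  have hinj : Function.Injective (hk k (ψ n) 1) := by
    refine (LinearMap.injective_iff_surjective_of_finrank_eq_finrank ?_).2 (hsurj n)
    refine le_antisymm ?_ (hanti n.le_succ)
    exact (hanti hn).trans (not_lt.1 (hmin _ ⟨n + 1, rfl⟩))
  have hSI : (ShortComplex.mk (Abelian.image.ι (ψ n)) (cokernel.π (ψ n)) (kernel.condition _)).ShortExact :=
    { exact := ShortComplex.exact_of_f_is_kernel _ (kernelIsKernel (cokernel.π (ψ n))) }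
  have hSK := Groth.L16.Devissage.shortExact_kernel_image (ψ n)
  have hι : ∀ w, hmap (Abelian.image.ι (ψ n)) 1 w = 0 → w = 0 := by
    intro w hw
    obtain ⟨v, hv⟩ := (exact_hmap_delta hSK 1 w).1 ((Groth.L21.RR.subsingleton_HH_two hd _ 0).elim _ _)
    have hv' : hmap (Abelian.factorThruImage (ψ n)) 1 v = w := hv
    have h0 : hk k (ψ n) 1 v = 0 := by
      show hmap (ψ n) 1 v = 0
      conv_lhs => rw [← Abelian.image.fac (ψ n)]
      rw [hmap_comp, hv', hw]
    rw [← hv', hinj (h0.trans (map_zero _).symm), map_zero]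
  have hπ : Function.Surjective (hmap (cokernel.π (ψ n)) 0) := fun y =>
    (exact_hmap_delta hSI 0 y).1 (hι _ ((exact_delta_hmap hSI 0 (delta hSI 0 y)).2 ⟨y, rfl⟩))
  obtain ⟨W, e, hW, hzW, he⟩ := exists_affine_frame (isInvertible_tensorPow hL (n + 1)) z
  obtain ⟨σ, hσ, -⟩ := Groth.L21.RR.exists_section_germ (hψ n) z
    (Groth.L21.RR.st (cokernel.π (ψ n)) z ((CohB1.tensorPow L (n + 1)).presheaf.germ W z hzW e))
  obtain ⟨y, hy⟩ := hπ ((Groth.L21.RR.e0 _).symm σ)
  let t : Γ(CohB1.tensorPow L (n + 1), ⊤) := Groth.L21.RR.e0 _ y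
  have ht : (cokernel.π (ψ n)).app ⊤ t = σ := by
    rw [← Groth.L21.RR.e0_hmap, hy, AddEquiv.apply_symm_apply]
  refine ⟨Groth.L16.homOfSection _ t, ?_⟩
  obtain ⟨c, hc⟩ := he.exists_coeff le_rfl (rs _ le_top t)
  rw [rs_self] at hc
  by_contra hzt
  have hcm : X.presheaf.germ W z hzW c ∈ IsLocalRing.maximalIdeal (X.presheaf.stalk z) := by
    by_contra h
    rw [IsLocalRing.mem_maximalIdeal, mem_nonunits_iff, not_not] at h
    refine hzt ((genLocus_inf_eq (Groth.L16.homOfSection _ t) he (a := c) ?_).ge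
      ((X.mem_basicOpen c z hzW).2 h)).1
    rw [secOf_homOfSection, hc]
  have hsu : IsUnit (1 - X.presheaf.germ W z hzW c) := by
    refine (IsLocalRing.isUnit_or_isUnit_one_sub_self (X.presheaf.germ W z hzW c)).resolve_left ?_
    exact (IsLocalRing.mem_maximalIdeal _).1 hcm
  let eg : (CohB1.tensorPow L (n + 1)).presheaf.stalk z := (CohB1.tensorPow L (n + 1)).presheaf.germ W z hzW e
  let P := Groth.L21.RR.st (cokernel.π (ψ n)) z
  have htg : (CohB1.tensorPow L (n + 1)).presheaf.germ ⊤ z trivial t = X.presheaf.germ W z hzW c • eg := by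
    rw [← Groth.L20.ModStalk.germ_rs _ (le_top : W ≤ ⊤) hzW t, ← hc, Groth.L20.ModStalk.germ_smul]
  have h1 : P eg = X.presheaf.germ W z hzW c • P eg := by
    rw [← map_smul, ← htg]
    refine (hσ.symm.trans ?_)
    rw [← ht]
    exact (Groth.L21.RR.st_germ _ _ _).symm
  have h2 : P eg = 0 := by
    refine hsu.smul_eq_zero.1 ?_
    rw [sub_smul, one_smul, ← h1, sub_self]
  have hmem : z ∈ CohB1.support (cokernel (mulSection (CohB1.tensorPow L n) φ)) := by
    rw [support_cokernel_mulSection (hcoh n) hL φ, support_eq_univ (isInvertible_tensorPow hL n)]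
    exact ⟨trivial, hz⟩
  refine hmem ⟨fun p q => ?_⟩
  have hall : ∀ p : (Groth.L00.Stk.F X z).obj (cokernel (ψ n)), p = 0 := by
    intro p
    obtain ⟨v, rfl⟩ := (ModuleCat.epi_iff_surjective ((Groth.L00.Stk.F X z).map (cokernel.π (ψ n)))).1
      (Functor.map_epi _ _) p
    obtain ⟨r, rfl⟩ := (Groth.L21.RR.bijective_germ_frame he hzW).2 v
    show P (r • eg) = 0
    rw [map_smul, h2, smul_zero]
  exact (hall p).trans (hall q).symm

end Groth.L22.CurveAmple
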